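import Groth.Agent.Synt29.ConormalStalk
import Groth.Agent.Synt29.ConormalExact
import Groth.Agent.UnivThick.Scheme

/-! Formally étale morphisms via universal first order thickenings and conormal sheaves. -/

set_option autoImplicit false

universe u

open CategoryTheory CategoryTheory.Limits AlgebraicGeometry TopologicalSpace Opposite
open scoped TensorProduct

namespace Groth.Agent.FEThick

open Groth.Agent.Synt29 Groth.Agent.Synt29.ConormalStalk Groth.Agent.Synt29.OmegaStalk Groth.Agent.KFlatLib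

variable {Z X : Scheme.{u}} (i : Z ⟶ X) [IsImmersion i] [QuasiCompact i]

omit [QuasiCompact i] in
theorem mul_eq_zero_of_killed (h2 : i.ker * i.ker = ⊥) [QuasiCompact i] {x : Z}
    (a b : X.presheaf.stalk (i x)) (ha : i.stalkMap x a = 0) (hb : i.stalkMap x b = 0) :
    a * b = 0 := by
  obtain ⟨W, hW, -, e, he, rfl⟩ := exists_killed i a ha ⊤ trivial
  obtain ⟨W', hW', hle, e', he', rfl⟩ := exists_killed i b hb W hW
  obtain ⟨_, ⟨V, hV, rfl⟩, hxV, hVW : V ≤ W'⟩ :=
    X.isBasis_affineOpens.exists_subset_of_mem_open hW' W'.isOpen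
  have key : ∀ {U : X.Opens} (s : Γ(X, U)) (hs : i.app U s = 0) (hVU : V ≤ U),
      X.presheaf.map (homOfLE hVU).op s ∈ i.ker.ideal ⟨V, hV⟩ := by
    intro U s hs hVU
    rw [Scheme.Hom.ker_apply, RingHom.mem_ker]
    refine (congr($(i.naturality (homOfLE hVU).op) s)).trans ?_
    rw [ConcreteCategory.comp_apply, hs, map_zero]
  have hm := Ideal.mul_mem_mul (key e he (hVW.trans hle)) (key e' he' hVW)
  have h3 := congr(($h2).ideal ⟨V, hV⟩)
  simp only [Scheme.IdealSheafData.ideal_mul, Pi.mul_apply, Scheme.IdealSheafData.ideal_bot,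
    Pi.bot_apply] at h3
  rw [h3, Ideal.mem_bot] at hm
  have := congrArg (X.presheaf.germ V (i x) hxV) hm
  rw [map_mul, map_zero, X.presheaf.germ_res_apply, X.presheaf.germ_res_apply] at this
  exact this

omit [IsImmersion i] [QuasiCompact i] in
theorem mem_smul_top_of_unit_eq_zero {A B : CommRingCat.{u}} (φ : A ⟶ B)
    (hs : Function.Surjective φ.hom) (M : ModuleCat.{u} A) (m : M)
    (h : ((ModuleCat.extendRestrictScalarsAdj φ.hom).unit.app M).hom m = 0) :
    m ∈ RingHom.ker φ.hom • (⊤ : Submodule A M) := by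
  let _ := φ.hom.toAlgebra
  have h1 : ((1 : B) ⊗ₜ[A] m : B ⊗[A] M) = 0 := h
  let e : (A ⧸ RingHom.ker φ.hom) ≃ₐ[A] B :=
    Ideal.quotientKerAlgEquivOfSurjective (f := Algebra.ofId A B) hs
  have hq : ((1 : A ⧸ RingHom.ker φ.hom) ⊗ₜ[A] m : (A ⧸ RingHom.ker φ.hom) ⊗[A] M) = 0 := by
    apply (TensorProduct.congr e.toLinearEquiv (LinearEquiv.refl A M)).injective
    rw [TensorProduct.congr_tmul, map_zero]
    simpa using h1
  have := congrArg (TensorProduct.quotTensorEquivQuotSMul M (RingHom.ker φ.hom)) hq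
  rw [← map_one (Ideal.Quotient.mk (RingHom.ker φ.hom)),
    TensorProduct.quotTensorEquivQuotSMul_mk_tmul, one_smul, map_zero,
    Submodule.Quotient.mk_eq_zero] at this
  exact this

theorem stalkMap_injective_of_isZero_conormal (h2 : i.ker * i.ker = ⊥)
    (h : IsZero (Omega.conormal i)) (x : Z) : Function.Injective (i.stalkMap x) := by
  refine (injective_iff_map_eq_zero _).mpr fun a ha => ?_
  obtain ⟨m, hm⟩ := exists_rep i ha
  have hz : unit1 i x m = 0 := by
    have hS : IsZero ((Scheme.Modules.pullback i ⋙ DerSch.stalkFunctor Z x).obj (I i)) :=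
      (DerSch.stalkFunctor Z x).map_isZero h
    have hs := ModuleCat.subsingleton_of_isZero hS
    exact (ConcreteCategory.bijective_of_isIso ((stalkPullbackIso i x).app (I i)).inv).1
      (Subsingleton.elim _ _)
  let K : Ideal (X.presheaf.stalk (i x)) := RingHom.ker (i.stalkMap x).hom
  have hmem : m ∈ K • (⊤ : Submodule (X.presheaf.stalk (i x)) (St (I i) (i x))) :=
    mem_smul_top_of_unit_eq_zero (i.stalkMap x) (i.stalkMap_surjective x) _ m hz
  obtain ⟨b, hb⟩ : ∃ b, Rep i (i x) m b ∧ b = 0 := by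
    refine Submodule.smul_induction_on hmem (fun c hc n _ => ?_) (fun y z hy hz => ?_)
    · obtain ⟨b, hb⟩ := rep_exists i (i x) n
      exact ⟨_, rep_smul i hb c, mul_eq_zero_of_killed i h2 c b hc (rep_mem i hb)⟩
    · obtain ⟨b, hb, rfl⟩ := hy
      obtain ⟨c, hc, rfl⟩ := hz
      exact ⟨0, by simpa using rep_add i hb hc, rfl⟩
  obtain ⟨U, hy, k, hk, hka⟩ := hm
  obtain ⟨⟨U', hy', k', hk', hka'⟩, rfl⟩ := hb
  obtain ⟨W, hyW, j, j', e'⟩ :=
    TopCat.Presheaf.germ_eq (C := AddCommGrpCat.{u}) (I i).presheaf (i x) hy hy' k k'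
      (hk.trans hk'.symm)
  rw [← hka, ← X.presheaf.germ_res_apply j _ hyW, ← hka', ← X.presheaf.germ_res_apply j' _ hyW]
  rw [show j = homOfLE (leOfHom j) from rfl, show j' = homOfLE (leOfHom j') from rfl] at e' ⊢
  erw [← OmegaLib.idealSect_map, ← OmegaLib.idealSect_map]
  exact congrArg _ (congrArg (OmegaSh.idealSect i.ker W) e')

theorem isIso_of_isZero_conormal {Z X : Scheme.{u}} (i : Z ⟶ X)
    (hi : MoreMor.IsFirstOrderThickening i) [QuasiCompact i]
    (h : IsZero (Omega.conormal i)) : IsIso i := by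
  have := hi.1.1
  have := hi.1.2
  rw [AlgebraicGeometry.isIso_iff_isIso_stalkMap]
  refine ⟨(TopCat.isoOfHomeo
      (i.isClosedEmbedding.toIsEmbedding.toHomeomorphOfSurjective i.surjective)).isIso_hom, fun x => ?_⟩
  exact (ConcreteCategory.isIso_iff_bijective _).mpr
    ⟨stalkMap_injective_of_isZero_conormal i hi.2 h x, i.stalkMap_surjective x⟩

theorem isZero_conormal_of_isIso {Z X : Scheme.{u}} (i : Z ⟶ X) [IsIso i] [QuasiCompact i] :
    IsZero (Omega.conormal i) := by
  rw [IsZero.iff_id_eq_zero]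
  refine ConormalExact.hom_ext_stalk _ _ fun x z => ?_
  obtain ⟨U, hx, k, rfl⟩ := exists_conormalSect i x z
  have h0 : gm (Omega.conormal i) hx (OmegaSh.conormalSect i U k) = 0 := by
    refine conormalSect_eq_zero i hx k ?_
    have hk : RingHom.ker (i.stalkMap x).hom = ⊥ :=
      (RingHom.injective_iff_ker_eq_bot _).mp (ConcreteCategory.bijective_of_isIso (i.stalkMap x)).1
    have := rep_mem i (x := x) ⟨U, hx, k, rfl, rfl⟩
    rw [← RingHom.mem_ker, hk] at this
    rw [this]
    exact zero_mem _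
  rw [h0, map_zero, map_zero]

end Groth.Agent.FEThick
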